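import Groth.Prelude.Def_DDual2
import Groth.Agent.Snapper.DimVanish
import Groth.Agent.CurveCohLib.PointTwist
import Groth.Agent.KFlatLib.Scheme.QCohTensor
import Groth.Agent.KFlatLib.Scheme.InnerHom
import Groth.Agent.Lib.RegEpiGen
import Groth.Agent.Lib.CurveDualPrep
import Groth.Agent.KFlatLib.Perfect.Tensor

/-! Global generation and the vanishing of first cohomology on one-dimensional proper schemes. -/

noncomputable section

set_option linter.style.haveILetI false
set_option linter.unusedSectionVars false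
set_option backward.isDefEq.respectTransparency false
set_option backward.isDefEq.respectTransparency.types false

universe u

open CategoryTheory CategoryTheory.Limits AlgebraicGeometry TopologicalSpace
open Groth.Agent.PnCoh.Finite (mapLin)

namespace Groth.Agent.DefAmple

open Groth.Agent

variable (k : Type u) [Field k] {X : Scheme.{u}} [X.Over (Spec (CommRingCat.of k))]
  [IsProper (X ↘ Spec (CommRingCat.of k))]

include k in
theorem subsingleton_HH_two (hdim : topologicalKrullDim X ≤ 1) {M : X.Modules} (hM : Coh.IsQCoh M)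
    {n : ℕ} (hn : 1 < n) : Subsingleton (Coh.HH X M n) := by
  haveI := CurveCohLib.isNoetherian_of_proper (k := k) (X := X)
  haveI : X.IsSeparated := ⟨by rw [← terminal.comp_from (X ↘ Spec (CommRingCat.of k))]; infer_instance⟩
  exact Snapper.subsingleton_HH_of_dim_le (d := 1) (by exact_mod_cast hdim) hM hn

include k in
/-- First cohomology is right exact. -/
theorem subsingleton_h1_of_epi (hdim : topologicalKrullDim X ≤ 1) {M N : X.Modules}
    (hM : Coh.IsQCoh M) (hN : Coh.IsQCoh N) (g : M ⟶ N) [Epi g]
    (h : Subsingleton (Coh.HH X M 1)) : Subsingleton (Coh.HH X N 1) :=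
  PnCoh.Finite.subsingleton_HH_X₃ (CurveSlope.shortExact_kernel_of_epi g) 1 h
    (subsingleton_HH_two k hdim (QCoh.isQCoh_kernel hM hN g) one_lt_two)

/-- A globally generated module is detected by its sections. -/
theorem gg_of_isGloballyGenerated {M : X.Modules} (hM : Curv2.IsGloballyGenerated M) : Euler.GG M := by
  obtain ⟨ι, q, hq⟩ := hM
  intro T g hg
  rw [← cancel_epi q, comp_zero]
  refine Sigma.hom_ext (f := fun _ : ι => SheafOfModules.unit X.ringCatSheaf) _ _ fun i => ?_
  rw [comp_zero]
  show Sigma.ι (fun _ : ι => SheafOfModules.unit X.ringCatSheaf) i ≫ q ≫ g = 0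
  rw [← Category.assoc]
  exact hg _

theorem gg_of_epi {M N : X.Modules} (hM : Euler.GG M) (q : M ⟶ N) [Epi q] : Euler.GG N :=
  fun T g hg => by
    rw [← cancel_epi q, comp_zero]
    exact hM T _ fun s => (Category.assoc _ _ _).symm.trans (hg (s ≫ q))

include k in
/-- A globally generated coherent module is a quotient of finitely many copies of the structure sheaf. -/
theorem exists_epi_of_gg {M : X.Modules} (hc : Coh.IsCoh M) (hM : Euler.GG M) :
    ∃ (d : ℕ) (p : (∐ fun _ : Fin d => Coh.structureModule X) ⟶ M), Epi p := by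
  haveI := CurveCohLib.finite_HH (k := k) hc 0
  let b := Module.finBasis k (Coh.HH X M 0)
  let σ : Fin (Module.finrank k (Coh.HH X M 0)) → (Coh.structureModule X ⟶ M) := fun i =>
    QCoh.homOfTop (Sheaf.H.equiv₀ (Coh.toAb M) isTerminalTop (b i))
  refine ⟨_, Sigma.desc σ, Preadditive.epi_of_cancel_zero _ fun {T} g hg => ?_⟩
  have hσ : ∀ i, mapLin k g 0 (b i) = 0 := fun i => by
    have h1 : σ i ≫ g = 0 := by
      have := congrArg (fun φ => Sigma.ι (fun _ : Fin (Module.finrank k (Coh.HH X M 0)) => Coh.structureModule X) i ≫ φ) hg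
      simpa using this
    refine (Sheaf.H.equiv₀ (Coh.toAb T) isTerminalTop).injective ?_
    rw [map_zero]
    refine (Sheaf.H.equiv₀_naturality isTerminalTop ((QCoh.toAbFunctor X).map g) (b i)).symm.trans ?_
    have h0 := congrArg (fun φ => Scheme.Modules.Hom.app φ ⊤ (1 : Γ(X, ⊤))) h1
    refine Eq.trans ?_ h0
    show g.app ⊤ _ = g.app ⊤ ((σ i).app ⊤ (1 : Γ(X, ⊤)))
    rw [QCoh.homOfTop_app, one_smul]
    congr 1
    exact (ConcreteCategory.congr_hom (M.presheaf.map_id _) _).symm
  have hall : mapLin k g 0 = 0 := b.ext fun i => by simpa using hσ i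
  exact CurveCohLib.PointTwist.eq_zero_of_gg k hM.isGloballyGenerated g fun t => LinearMap.congr_fun hall t

include k in
/-- A globally generated coherent module has no first cohomology when the structure sheaf has none. -/
theorem h1_of_gg (hdim : topologicalKrullDim X ≤ 1)
    (hg : Subsingleton (Coh.HH X (Coh.structureModule X) 1)) {M : X.Modules} (hc : Coh.IsCoh M)
    (hM : Euler.GG M) : Subsingleton (Coh.HH X M 1) := by
  obtain ⟨d, p, hp⟩ := exists_epi_of_gg k hc hM
  exact subsingleton_h1_of_epi k hdim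
    (QCoh.isQCoh_of_isFinLocFree (KFlatLib.isFinLocFree_freeMod d))
    hc.1 p (RegEpi.subsingleton_HH_sigma _ 1 fun _ => hg)

include k in
theorem good_of_gg (hdim : topologicalKrullDim X ≤ 1)
    (hg : Subsingleton (Coh.HH X (Coh.structureModule X) 1)) {M : X.Modules} (hc : Coh.IsCoh M)
    (hM : Euler.GG M) : Euler.Good M := by
  refine ⟨fun i hi => ?_, hM⟩
  rcases hi.eq_or_lt with rfl | hlt
  exacts [h1_of_gg k hdim hg hc hM, subsingleton_HH_two k hdim hc.1 hlt]

/-- Tensoring on the left preserves epimorphisms. -/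
theorem epi_tensor_flip {A B : X.Modules} (φ : A ⟶ B) [Epi φ] (W : X.Modules) :
    Epi ((DCoh.tensorBi.flip.obj W).map φ) := inferInstance

include k in
/-- Right exact sequences push vanishing of first cohomology to the middle. -/
theorem h1_middle (hdim : topologicalKrullDim X ≤ 1) {S : ShortComplex X.Modules}
    (hS : S.Exact) [Epi S.g] (h₁' : Coh.IsQCoh S.X₁) (h₂' : Coh.IsQCoh S.X₂) (h₃' : Coh.IsQCoh S.X₃)
    (h₁ : Subsingleton (Coh.HH X S.X₁ 1)) (h₃ : Subsingleton (Coh.HH X S.X₃ 1)) :
    Subsingleton (Coh.HH X S.X₂ 1) := by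
  have hK : Coh.IsQCoh (kernel S.g) := QCoh.isQCoh_kernel h₂' h₃' _
  haveI : Epi (kernel.lift S.g S.f S.zero) := (S.exact_iff_epi_kernel_lift).1 hS
  exact QCoh.subsingleton_HH_X₂ (CurveSlope.shortExact_kernel_of_epi S.g) 1
    (subsingleton_h1_of_epi k hdim h₁' hK (kernel.lift S.g S.f S.zero) h₁) h₃

end Groth.Agent.DefAmple
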