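import Groth.Agent.CurveDefAmple.Basic

/-! Closure properties of deformation ample bundles on one-dimensional proper schemes. -/

noncomputable section

set_option linter.style.haveILetI false
set_option linter.unusedSectionVars false
set_option backward.isDefEq.respectTransparency false
set_option backward.isDefEq.respectTransparency.types false

universe u

open CategoryTheory CategoryTheory.Limits AlgebraicGeometry TopologicalSpace

namespace Groth.Agent.DefAmple

open Groth.Agent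

variable (k : Type u) [Field k] {X : Scheme.{u}} [X.Over (Spec (CommRingCat.of k))]
  [IsProper (X ↘ Spec (CommRingCat.of k))] (hdim : topologicalKrullDim X ≤ 1)
  (hg : Subsingleton (Coh.HH X (Coh.structureModule X) 1)) {W : X.Modules} (hW : Coh.IsQCoh W)

include k hdim hg hW

theorem extension {S : ShortComplex X.Modules} (hS : S.ShortExact)
    (h₁c : Coh.IsCoh S.X₁) (h₂c : Coh.IsCoh S.X₂) (h₃c : Coh.IsCoh S.X₃)
    (h₁ : Curv2.IsGloballyGenerated S.X₁ ∧ Subsingleton (Coh.HH X (CohB1.tensorMod S.X₁ W) 1))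
    (h₃ : Curv2.IsGloballyGenerated S.X₃ ∧ Subsingleton (Coh.HH X (CohB1.tensorMod S.X₃ W) 1)) :
    Curv2.IsGloballyGenerated S.X₂ ∧ Subsingleton (Coh.HH X (CohB1.tensorMod S.X₂ W) 1) := by
  refine ⟨(Euler.good_X₂ hS (good_of_gg k hdim hg h₁c (gg_of_isGloballyGenerated h₁.1))
    (good_of_gg k hdim hg h₃c (gg_of_isGloballyGenerated h₃.1))).2.isGloballyGenerated, ?_⟩
  let F := DCoh.tensorBi.flip.obj W
  haveI : Epi S.g := hS.epi_g
  haveI : Epi (S.map F).g := inferInstanceAs (Epi (F.map S.g))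
  exact h1_middle k hdim (S := S.map F) (hS.exact.map_of_epi_of_preservesCokernel F inferInstance inferInstance)
    (KFlatLib.isQCoh_tensor h₁c.1 hW) (KFlatLib.isQCoh_tensor h₂c.1 hW) (KFlatLib.isQCoh_tensor h₃c.1 hW) h₁.2 h₃.2

theorem torsion_cokernel {E₁ E₂ : X.Modules} (h₁c : Coh.IsCoh E₁) (h₂c : Coh.IsCoh E₂) (φ : E₁ ⟶ E₂)
    (htors : ∀ x ∈ CohB1.support (cokernel φ), IsClosed ({x} : Set X))
    (h₁ : Curv2.IsGloballyGenerated E₁ ∧ Subsingleton (Coh.HH X (CohB1.tensorMod E₁ W) 1)) :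
    Curv2.IsGloballyGenerated E₂ ∧ Subsingleton (Coh.HH X (CohB1.tensorMod E₂ W) 1) := by
  haveI := CurveCohLib.isNoetherian_of_proper (k := k) (X := X)
  have hQc : Coh.IsCoh (cokernel φ) := QCoh.isCoh_cokernel h₁c.1 h₂c φ
  refine ⟨?_, ?_⟩
  · obtain ⟨I, π, j, hj, hfac, -, hIc, hπ, -⟩ := CurveSlope.exists_factor h₁c h₂c φ
    let e : cokernel j ≅ cokernel φ :=
      (cokernelEpiComp π j).symm ≪≫ cokernelIsoOfEq hfac
    have hsupp : ∀ x ∈ CohB1.support (cokernel φ), closure ({x} : Set X) = {x} := fun x hx =>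
      (htors x hx).closure_eq
    exact (Euler.good_X₂ (CurveSlope.shortExact_cokernel_of_mono j)
      (good_of_gg k hdim hg hIc (gg_of_epi (gg_of_isGloballyGenerated h₁.1) π))
      (Euler.good_of_iso e.symm (Euler.good_of_support hQc hsupp))).2.isGloballyGenerated
  · let F := DCoh.tensorBi.flip.obj W
    let S := ShortComplex.mk φ (cokernel.π φ) (cokernel.condition φ)
    haveI : Epi S.g := inferInstanceAs (Epi (cokernel.π φ))
    haveI : Epi (S.map F).g := inferInstanceAs (Epi (F.map (cokernel.π φ)))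
    have hfin := CurveCohLib.finite_of_closedPoints (QCoh.isClosed_support_of_isFT hQc.1 hQc.2) htors
    refine h1_middle k hdim (S := S.map F)
      ((ShortComplex.exact_of_g_is_cokernel S (cokernelIsCokernel φ)).map_of_epi_of_preservesCokernel F inferInstance inferInstance)
      (KFlatLib.isQCoh_tensor h₁c.1 hW) (KFlatLib.isQCoh_tensor h₂c.1 hW) (KFlatLib.isQCoh_tensor hQc.1 hW) h₁.2 ?_
    refine CurveVanish.subsingleton_HH_of_finite hfin htors (fun x hx => ?_) 0
    haveI hs : Subsingleton ((cokernel φ).presheaf.stalk x) := not_not.1 hx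
    haveI hT : Subsingleton (TensorProduct (X.presheaf.stalk x) ((cokernel φ).presheaf.stalk x) (W.presheaf.stalk x)) :=
      subsingleton_of_forall_eq 0 fun t => by
        induction t using TensorProduct.induction_on with
        | zero => rfl
        | tmul a b => rw [Subsingleton.elim a 0, TensorProduct.zero_tmul]
        | add a b ha hb => rw [ha, hb, add_zero]
    exact @Equiv.subsingleton _ _ (KFlatLib.stalkTensorIso x (cokernel φ) W).symm.toLinearEquiv.toEquiv hT

theorem tensor {A B : X.Modules} (hAc : Coh.IsCoh A) (hBc : Coh.IsCoh B)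
    (hA : Euler.GG A) (hB : Subsingleton (Coh.HH X ((DCoh.tensorBi.obj B).obj W) 1)) :
    Subsingleton (Coh.HH X ((DCoh.tensorBi.obj ((DCoh.tensorBi.obj A).obj B)).obj W) 1) := by
  obtain ⟨d, p, hp⟩ := exists_epi_of_gg k hAc hA
  let F₁ := DCoh.tensorBi.flip.obj B
  let F₂ := DCoh.tensorBi.flip.obj W
  haveI : Epi (F₁.map p) := inferInstance
  haveI : Epi (F₂.map (F₁.map p)) := inferInstance
  have hfree : Coh.IsQCoh (∐ fun _ : Fin d => Coh.structureModule X) :=
    QCoh.isQCoh_of_isFinLocFree (KFlatLib.isFinLocFree_freeMod d)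
  let e₁ : F₁.obj (∐ fun _ : Fin d => Coh.structureModule X) ≅ ∐ fun _ : Fin d => B :=
    PreservesCoproduct.iso F₁ _ ≪≫ Sigma.mapIso fun _ => CurveTensor.structureTensorIso B
  let e : F₂.obj (F₁.obj (∐ fun _ : Fin d => Coh.structureModule X)) ≅
      ∐ fun _ : Fin d => F₂.obj B :=
    F₂.mapIso e₁ ≪≫ PreservesCoproduct.iso F₂ _
  have h1 : Subsingleton (Coh.HH X (∐ fun _ : Fin d => F₂.obj B) 1) :=
    RegEpi.subsingleton_HH_sigma (fun _ : Fin d => F₂.obj B) 1 fun _ => hB
  exact subsingleton_h1_of_epi k hdim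
    (KFlatLib.isQCoh_tensor (KFlatLib.isQCoh_tensor hfree hBc.1) hW)
    (KFlatLib.isQCoh_tensor (KFlatLib.isQCoh_tensor hAc.1 hBc.1) hW) (F₂.map (F₁.map p))
    (QCoh.subsingleton_HH_of_iso e.symm 1 h1)

omit hdim hg hW in
theorem gg_sigma {d : ℕ} {B : X.Modules} (hB : Euler.GG B) : Euler.GG (∐ fun _ : Fin d => B) := by
  intro T g hg'
  refine Sigma.hom_ext (f := fun _ : Fin d => B) _ _ fun i => ?_
  rw [comp_zero]
  exact hB T _ fun s => (Category.assoc _ _ _).symm.trans (hg' (s ≫ Sigma.ι (fun _ : Fin d => B) i))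

omit hdim hg hW in
theorem gg_structureModule : Euler.GG (Coh.structureModule X) :=
  fun T g hg' => (Category.id_comp g).symm.trans (hg' (𝟙 _))

omit hdim hg hW in
theorem gg_tensor {A B : X.Modules} (hAc : Coh.IsCoh A) (hA : Euler.GG A) (hB : Euler.GG B) :
    Euler.GG ((DCoh.tensorBi.obj A).obj B) := by
  obtain ⟨d, p, hp⟩ := exists_epi_of_gg k hAc hA
  let F₁ := DCoh.tensorBi.flip.obj B
  haveI : Epi (F₁.map p) := inferInstance
  let e₁ : F₁.obj (∐ fun _ : Fin d => Coh.structureModule X) ≅ ∐ fun _ : Fin d => B :=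
    PreservesCoproduct.iso F₁ _ ≪≫ Sigma.mapIso fun _ => CurveTensor.structureTensorIso B
  exact gg_of_epi (gg_sigma k hB) (e₁.inv ≫ F₁.map p)

omit hdim hg hW in
theorem tensorPow_coh_gg {E : X.Modules} (hE : FlatMod.IsFinLocFree E) (hgE : Euler.GG E) :
    ∀ n, FlatMod.IsFinLocFree (CohB1.tensorPow E n) ∧ Euler.GG (CohB1.tensorPow E n)
  | 0 => ⟨fun y => (InvEnd.isFinLocFreeOfRank_one CurveDeg.isInvertible_structureModule y).imp fun _ h => ⟨1, h⟩, gg_structureModule k⟩
  | n + 1 => by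
    haveI := CurveCohLib.isNoetherian_of_proper (k := k) (X := X)
    obtain ⟨h1, h2⟩ := tensorPow_coh_gg hE hgE n
    exact ⟨KFlatLib.isFinLocFree_tensor h1 hE, gg_tensor k (CurveDeg.isCoh_of_isFinLocFree h1) h2 hgE⟩

theorem tensorPow {E : X.Modules} (hE : FlatMod.IsFinLocFree E)
    (h₁ : Curv2.IsGloballyGenerated E ∧ Subsingleton (Coh.HH X (CohB1.tensorMod E W) 1)) (n : ℕ) :
    Curv2.IsGloballyGenerated (CohB1.tensorPow E (n + 1)) ∧
      Subsingleton (Coh.HH X (CohB1.tensorMod (CohB1.tensorPow E (n + 1)) W) 1) := by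
  haveI := CurveCohLib.isNoetherian_of_proper (k := k) (X := X)
  have hgE := gg_of_isGloballyGenerated h₁.1
  obtain ⟨hf, hgg⟩ := tensorPow_coh_gg k hE hgE n
  exact ⟨(tensorPow_coh_gg k hE hgE (n + 1)).2.isGloballyGenerated,
    tensor k hdim hg hW (CurveDeg.isCoh_of_isFinLocFree hf) (CurveDeg.isCoh_of_isFinLocFree hE) hgg h₁.2⟩

end Groth.Agent.DefAmple
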