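import Groth.Agent.CurveDefAmple.Basic
import Groth.Agent.Lib.CurvePoint

/-! The ideal of a rational closed point has no first cohomology. -/

noncomputable section

set_option linter.style.haveILetI false
set_option linter.unusedSectionVars false
set_option backward.isDefEq.respectTransparency false
set_option backward.isDefEq.respectTransparency.types false

universe u

open CategoryTheory CategoryTheory.Limits AlgebraicGeometry TopologicalSpace
open Groth.Agent.PnCoh.Finite (mapLin)

namespace Groth.Agent.DefAmple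

open Groth.Agent

variable (k : Type u) [Field k] [IsAlgClosed k] {X : Scheme.{u}} [X.Over (Spec (CommRingCat.of k))]
  [IsProper (X ↘ Spec (CommRingCat.of k))] (p : X) (hp : IsClosed ({p} : Set X))

/-- Sections of the residue module of a closed point form a line. -/
theorem finrank_h0_quot_le : Module.finrank k (Coh.HH X (ClSub.quotMod (CurvePoint.ptIdeal p hp)) 0) ≤ 1 := by
  classical
  haveI := CurveCohLib.isNoetherian_of_proper (k := k) (X := X)
  let Q := ClSub.quotMod (CurvePoint.ptIdeal p hp)
  have hQc : Coh.IsCoh Q := ParShLib.isCoh_quotMod _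
  have hcl : ∀ x ∈ CohB1.support Q, IsClosed ({x} : Set X) := fun x hx =>
    Set.mem_singleton_iff.1 (CurvePoint.support_quot_subset p hp hx) ▸ hp
  obtain ⟨h, hfin⟩ := CurveCohLib.euler_eq_sum_stalks (k := k) hQc hcl {p}
    (by simpa using CurvePoint.support_quot_subset p hp)
  rw [CurveCohLib.euler_eq_finrank_zero hQc hcl, Finset.sum_singleton] at h
  letI := CurveCohLib.stalkModuleK k Q p
  obtain ⟨q₀, hq₀⟩ : ∃ q₀ : Q.presheaf.stalk p, ∀ q, ∃ a : X.presheaf.stalk p, q = a • q₀ :=
    ParShLib.exists_germ_smul (CurvePoint.ptIdeal p hp) p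
  let L : k →ₗ[k] Q.presheaf.stalk p :=
    { toFun := fun c => Curv2.stalkMap k X p c • q₀
      map_add' := fun c d => by rw [map_add, add_smul]
      map_smul' := fun a c => by
        show Curv2.stalkMap k X p (a * c) • q₀ = Curv2.stalkMap k X p a • (Curv2.stalkMap k X p c • q₀)
        rw [map_mul, mul_smul] }
  have hL : Function.Surjective L := fun q => by
    obtain ⟨a, ha⟩ := hq₀ q
    obtain ⟨c, hc⟩ := CurveSection.exists_stalkMap_sub_mem k hp a
    refine ⟨c, ?_⟩
    have h0 := CurvePoint.smul_quot_eq_zero p hp hc q₀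
    rw [sub_smul, sub_eq_zero] at h0
    exact h0.symm.trans (ha.symm : a • q₀ = q)
  have h1 := LinearMap.finrank_le_finrank_of_surjective hL
  rw [Module.finrank_self] at h1
  have h2 : Module.finrank k (Coh.HH X Q 0) = Module.finrank k (Q.presheaf.stalk p) := by exact_mod_cast h
  exact h2.le.trans h1

theorem gg_structureModule' : Euler.GG (Coh.structureModule X) :=
  fun T g hg' => (Category.id_comp g).symm.trans (hg' (𝟙 _))

include k in
/-- The point ideal has no first cohomology. -/
theorem h1_ptMod (hg : Subsingleton (Coh.HH X (Coh.structureModule X) 1)) :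
    Subsingleton (Coh.HH X (CurvePoint.ptMod p hp) 1) := by
  haveI := CurveCohLib.isNoetherian_of_proper (k := k) (X := X)
  haveI := CurvePoint.epi_toSubscheme (CurvePoint.ptIdeal p hp)
  let t := ClSub.toSubscheme (CurvePoint.ptIdeal p hp)
  haveI := CurveCohLib.finite_HH (k := k) (ParShLib.isCoh_quotMod (CurvePoint.ptIdeal p hp)) 0
  have hne : mapLin k t 0 ≠ 0 := fun h0 => CurvePoint.not_subsingleton_stalk p hp (by
    have ht : t = 0 := CurveCohLib.PointTwist.eq_zero_of_gg k (gg_structureModule' (X := X)).isGloballyGenerated t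
      fun s => LinearMap.congr_fun h0 s
    exact ModuleCat.subsingleton_of_isZero ((DerSch.stalkFunctor X p).map_isZero (IsZero.of_epi_eq_zero t ht)))
  have hsurj : Function.Surjective (mapLin k t 0) := by
    rw [← LinearMap.range_eq_top]
    refine Submodule.eq_top_of_finrank_eq ?_
    have h1 : Module.finrank k (Coh.HH X ((Scheme.Modules.pushforward (CurvePoint.ptIdeal p hp).subschemeι).obj (Coh.structureModule (CurvePoint.ptIdeal p hp).subscheme)) 0) ≤ 1 := finrank_h0_quot_le k p hp
    have h2 : 0 < Module.finrank k (LinearMap.range (mapLin k t 0)) := by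
      rw [Nat.pos_iff_ne_zero]
      exact fun h => hne (LinearMap.range_eq_bot.1 (Submodule.finrank_eq_zero.1 h))
    have h3 := Submodule.finrank_le (LinearMap.range (mapLin k t 0))
    omega
  have hS : (ShortComplex.mk (ClSub.idealModι (CurvePoint.ptIdeal p hp)) t (kernel.condition _)).ShortExact :=
    CurveSlope.shortExact_kernel_of_epi _
  refine subsingleton_of_forall_eq 0 fun x => ?_
  obtain ⟨y, rfl⟩ := (CurveCohLib.ker_mapLin_f_succ k hS 0).le (LinearMap.mem_ker.2 (hg.elim (mapLin k (ClSub.idealModι (CurvePoint.ptIdeal p hp)) 1 x) 0))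
  obtain ⟨z, rfl⟩ := hsurj y
  exact LinearMap.mem_ker.1 ((CurveCohLib.ker_deltaLin k hS 0).ge ⟨z, rfl⟩)

include k in
/-- Tensoring with a globally generated coherent module preserves the vanishing of first cohomology. -/
theorem h1_tensor_of_gg (hdim : topologicalKrullDim X ≤ 1) {A W : X.Modules} (hAc : Coh.IsCoh A)
    (hA : Euler.GG A) (hW : Coh.IsQCoh W) (h : Subsingleton (Coh.HH X W 1)) :
    Subsingleton (Coh.HH X ((DCoh.tensorBi.obj A).obj W) 1) := by
  obtain ⟨d, q, hq⟩ := exists_epi_of_gg k hAc hA
  let F₁ := DCoh.tensorBi.flip.obj W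
  haveI : Epi (F₁.map q) := inferInstance
  have hfree : Coh.IsQCoh (∐ fun _ : Fin d => Coh.structureModule X) :=
    QCoh.isQCoh_of_isFinLocFree (KFlatLib.isFinLocFree_freeMod d)
  let e : F₁.obj (∐ fun _ : Fin d => Coh.structureModule X) ≅ ∐ fun _ : Fin d => W :=
    PreservesCoproduct.iso F₁ _ ≪≫ Sigma.mapIso fun _ => CurveTensor.structureTensorIso W
  exact subsingleton_h1_of_epi k hdim (KFlatLib.isQCoh_tensor hfree hW) (KFlatLib.isQCoh_tensor hAc.1 hW)
    (F₁.map q) (QCoh.subsingleton_HH_of_iso e.symm 1 (RegEpi.subsingleton_HH_sigma _ 1 fun _ => h))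

end Groth.Agent.DefAmple
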